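import Cfsg.Agent.H892.EP.TM_m3
import Cfsg.Agent.H894.PQ.Th
import Cfsg.Agent.H513.PQ.HS
import Cfsg.Agent.H846.PB.HS
import Cfsg.Agent.H570.Ore.Blk_m3
import Cfsg.Agent.Lib.FastPerm
import Cfsg.Agent.H394.PBTools_m3
import Cfsg.Agent.H289.Eight.SuzDeg
import Cfsg.Agent.H147.Fpr.Suz
import Cfsg.Agent.H153.ZerosSuz
import Cfsg.Agent.CpAutSuz.Local
import Cfsg.Agent.H874.CCSuz
import Cfsg.Agent.H852.RatB.Real
import Cfsg.Agent.H852.RealRank
import Cfsg.Agent.FastGrp
import Cfsg.Agent.Prune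
set_option linter.all false

section
prune_inst 0x7f00000000000000000000000000000000000000000000000000000000000000000000000000000000000000000000000000000000000000000000000000000000000000000000000000000000000000003fffffffffffffffffffffffffffbeffbdffffffff

-- part: H877/EP/HS
section
set_option linter.all false
open scoped Cfsg.Agent.FastGrp

-- part: H877/EP/Th
section
/-!
# S4929, TEAM EVP: the row of the Thompson group (helper877)

The degree `61256 = 2^3 13 19 31` for the primes 3, 5, 7; a degree `d * 30507008 = d 2^15 7^2 19`, `d ≤ 10`, for the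
prime 31; cyclic Sylow subgroups and real elements for the primes 13, 19.
-/

set_option autoImplicit false

open Cfsg Subgroup Cfsg.Agent.Characters.Core

namespace Cfsg.Agent.H877.EP

open Cfsg.Agent.H892.EP Cfsg.Agent.H709.PB Cfsg.Agent.H894
open Cfsg.Agent.H964.NoHall (thE thW thW_order thA_conj)

/-- a character of even degree not divisible by `p ^ a`, where all characters outside the principal block have degree
divisible by `p ^ a` -/
theorem evAt_of_nb {G : Type*} [Group G] {p a : ℕ} (h : NB p a G) {χ : IrrCharacter G}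
    (h1 : ¬ p ^ a ∣ charDegree (χ : G → ℂ)) (h2 : 2 ∣ charDegree (χ : G → ℂ)) : EvAt p G := by
  intro M hM
  refine ⟨χ, ?_, h2⟩
  by_contra h3
  exact h1 (h M hM χ h3)

/-- the Sylow `r`-subgroups are cyclic if `r ^ 2` does not divide the order -/
theorem cyc {r : ℕ} [Fact r.Prime] {G : Type*} [Group G] [Finite G] {n : ℕ} (hn : Nat.card G = r * n) (hr : n % r ≠ 0)
    (P : Sylow r G) : IsCyclic (P : Subgroup G) := by
  have hrp : r.Prime := Fact.out
  refine isCyclic_of_prime_card (p := r) ?_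
  rw [Sylow.card_eq_multiplicity, hn, Nat.factorization_mul hrp.ne_zero (fun h => by simp [h] at hr),
    Finsupp.add_apply, hrp.factorization_self, Nat.factorization_eq_zero_of_not_dvd (fun h => hr (Nat.mod_eq_zero_of_dvd h))]
  norm_num

theorem ev_th : Ev Spor.Th := by
  intro p hp hp2 hd
  have := PQ.Th.fin_th
  have hpF : Fact p.Prime := ⟨hp⟩
  obtain ⟨χ, hχ⟩ := H399.Two.Th.deg_a
  rcases PQ.Th.primes hp hd with rfl | rfl | rfl | rfl | rfl | rfl | rfl
  · exact absurd rfl hp2
  · exact evAt_of_nb H491.PB.Th.nb_3 (χ := χ) (by rw [hχ]; norm_num) (by rw [hχ]; norm_num)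
  · exact evAt_of_nb H491.PB.Th.nb_5 (χ := χ) (by rw [hχ]; norm_num) (by rw [hχ]; norm_num)
  · exact evAt_of_nb H491.PB.Th.nb_7 (χ := χ) (by rw [hχ]; norm_num) (by rw [hχ]; norm_num)
  · obtain ⟨x, hx, hr⟩ := Cfsg.Agent.H661.Spor.Th.hasReal.isConj
    exact evAt_of_real_cyclic (by norm_num) (cyc (n := 90745943887872000 / 13) (by rw [PQ.Th.card_th]) (by norm_num)) hx hr
  · have hinv : thE (.g .a) * thE thW * (thE (.g .a))⁻¹ = (thE thW)⁻¹ :=
      H227.IMTh.inv_of_pow (n := 18) (orderOf_dvd_iff_pow_eq_one.1 (dvd_of_eq thW_order)) thA_conj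
    exact evAt_of_real_cyclic (by norm_num) (cyc (n := 90745943887872000 / 19) (by rw [PQ.Th.card_th]) (by norm_num))
      thW_order (isConj_iff.2 ⟨_, hinv⟩)
  · obtain ⟨ψ, d, hψ⟩ := ThLine.deg45
    obtain ⟨hd0, hd11⟩ := PQ.Th.bound hψ (by norm_num)
    refine evAt_of_nb H491.PB.Th.nb_31 (χ := ψ) ?_ ?_
    · rw [hψ]
      have hd1 : 1 ≤ d := Nat.one_le_iff_ne_zero.2 hd0
      clear hd0 hψ
      interval_cases d <;> norm_num
    · rw [hψ]
      exact Dvd.dvd.mul_left (by norm_num) d

/-- **The row of the Thompson group.** -/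
theorem row_th : SpRow fun K => Spor.IsoTh K := by
  intro K _ _ _ h
  obtain ⟨e⟩ := h
  have := PQ.Th.fin_th
  exact ev_th.tr e.symm

end Cfsg.Agent.H877.EP
end

-- part: H877/EP/HS
section
/-!
# S4929, TEAM EVP: the row of the Higman-Sims group (helper877)

* `p = 5, 7`: one block of full defect and the degree `22`;
* `p = 11`: one block of positive defect; the columns of the elements of order `7` and `11` force an even degree
  not divisible by `11`;
* `p = 3`: two blocks of full defect, separated by the class 2B; the degrees `77` and `22` have the values `1`, `-2`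
  on this class.
-/

set_option autoImplicit false
set_option maxRecDepth 100000

open Cfsg Subgroup Cfsg.Agent.Characters.Core

namespace Cfsg.Agent.H877.EP.HS

open Cfsg.Agent.H892.EP Cfsg.Agent.H709.PB Cfsg.Agent.H877.EP
open Cfsg.Agent.Blocks.Basic Cfsg.Agent.Blocks.Local Cfsg.Agent.Blocks.FullDefect
open Cfsg.Agent.H317.PQ Cfsg.Agent.H513.PQ Cfsg.Agent.H766.PQ
open Cfsg.Agent.H904.HSCent Cfsg.Agent.HN.HS100
open Cfsg.Agent.H819.K4 Cfsg.Agent.H819.K4.HSCol
open Cfsg.Agent.SporadicA.PermTab Cfsg.Agent.H678.DG.PairRep Cfsg.Agent.H678.DG.Blk Cfsg.Agent.KFacts.HS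
open Cfsg.Agent.H513.PQ.HS

universe u

/-! ### degree 22 -/

/-- degree 22 -/
theorem exists_22 : ∃ χ : Q → ℂ, IsIrrCharacter Q χ ∧ χ 1 = (22 : ℕ) ∧
    ∀ g : Q, (∀ k : E, (g • k).val = ap ea eb ix tw k.val) → χ g = (-2 : ℤ) :=
  exists_char (θ := -45) (ω := ![1, 2/7, -3/7, -1/14, 2/7])
    ![![0, 0, 0, 0, 0], ![-17/2604, 19/39060, 1/13020, -1/39060, 0], ![1/105, 0, 0, 0, 0],
      ![59/34720, -1/156240, -1/20832, 1/62496, 0], ![-701/104160, -1/17360, 17/104160, -1/208320, 0]]
    rfl (by decide +kernel) (by decide +kernel) (by decide +kernel) (by decide +kernel)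

/-! ### `p = 11` -/

section eleven

open Cfsg.Agent.H653.Sieve

variable {S : Type u} [Group S] [Finite S] [IsSimpleGroup S]

def par11 : Par := ⟨11, [(0, 0), (1, 2), (10, -2), (5, -1), (6, 1)], 22, 2, true, 2⟩
def par7 : Par := ⟨7, [(0, 0), (1, 1), (6, -1)], 7, 0, false, 1⟩
def cfs : List Cf := [⟨-1, 0, 875, [1100]⟩, ⟨0, 0, 0, []⟩]

/-- even and not divisible by `11` -/
def q11 (d : ℕ) : Bool := Nat.beq (d % 2) 0 && !Nat.beq (d % 11) 0

theorem exists_even (hS : ¬ IsMulCommutative S) (hN : Nat.card S = 44352000) {x y : S} (hx : orderOf x = 11)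
    (hy : orderOf y = 7) (hcx : Nat.card (centralizer ({x} : Set S)) = 11)
    (hcy : Nat.card (centralizer ({y} : Set S)) = 7) :
    ∃ χ : IrrCharacter S, 2 ∣ charDegree (χ : S → ℂ) ∧ ¬ 11 ∣ charDegree (χ : S → ℂ) := by
  classical
  have := finite_irr (G := S)
  let _ := Fintype.ofFinite (IrrCharacter S)
  have : Fact (Nat.Prime 11) := ⟨by norm_num⟩
  have : Fact (Nat.Prime 7) := ⟨by norm_num⟩
  obtain ⟨P, W, hP, he, hcol, hok⟩ := exists_col hS hN hx (k := 1) (by rw [hcx]) 5 2
    [(0, 0), (1, 2), (10, -2), (5, -1), (6, 1)] 2 true (by decide +kernel)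
  obtain ⟨P', W', hP', he', hcol', hok'⟩ := exists_col hS hN hy (k := 1) (by rw [hcy]) 6 1
    [(0, 0), (1, 1), (6, -1)] 0 false (by decide +kernel)
  have ho : Orth W W' := orth_of_ne (by norm_num) hP hP' hcol hcol' he he'
  have hok1 : ColOK par11 W := hok
  have hok2 : ColOK par7 W' := hok'
  have hnp : ¬ (Nat.card S).Prime := by rw [hN]; norm_num
  obtain ⟨χ, -, hχ⟩ := exists_of_check 44352000 hN [(2, 9), (3, 2), (5, 3), (7, 1), (11, 1)] (by decide +kernel)
    (by decide +kernel) (fun χ h => one_of_deg hnp χ h) (ps := [par11, par7]) (Ws := [W, W'])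
    (.cons hok1 (.cons hok2 .nil)) (List.pairwise_cons.2 ⟨fun a ha => by
      rw [List.mem_singleton] at ha; rw [ha]; exact ho, List.pairwise_singleton _ _⟩) [] (by simp) 0 cfs q11
    (by decide +kernel) (by decide +kernel)
  unfold q11 at hχ
  rw [Bool.and_eq_true, Bool.not_eq_true'] at hχ
  refine ⟨χ, Nat.dvd_of_mod_eq_zero (Nat.eq_of_beq_eq_true hχ.1), fun h => ?_⟩
  have h1 := Nat.mod_eq_zero_of_dvd h
  have h2 : Nat.beq (deg χ % 11) 0 = true := by
    show Nat.beq (charDegree (χ : S → ℂ) % 11) 0 = true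
    rw [h1]
    rfl
  rw [h2] at hχ
  exact absurd hχ.2 (by decide)

end eleven

/-! ### `p = 3` -/

section three

/-- Two classes of `p`-regular elements centralizing a Sylow `p`-subgroup: a character of degree prime to `p` that is
not in the block of `ψ` (outside the principal block) is in the principal block. -/
theorem mem_of_two {G : Type u} [Group G] [Finite G] {p : ℕ} (hp : p.Prime) (P : Sylow p G) {t : G}
    (hP : ∀ y ∈ centralizer ((P : Subgroup G) : Set G), ¬ p ∣ orderOf y → y = 1 ∨ IsConj y t)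
    {χ ψ : IrrCharacter G} {a b v w c : ℤ} (ha : (χ : G → ℂ) 1 = a) (hb : (ψ : G → ℂ) 1 = b)
    (hv : (χ : G → ℂ) t = v) (hw : (ψ : G → ℂ) t = w) (hψ : ψ ∉ B0 p G) (hd : ¬ p ∣ charDegree (χ : G → ℂ))
    (hd' : ¬ p ∣ charDegree (ψ : G → ℂ))
    (hc : c * (a * b) = ((centralizer ({t} : Set G)).index : ℤ) * (v * b - w * a)) (hpc : ¬ (p : ℤ) ∣ c) :
    χ ∈ B0 p G := by
  classical
  have : Fact p.Prime := ⟨hp⟩
  have := Fintype.ofFinite G
  obtain ⟨M, hM⟩ := Blocks.ExistsModular.exists_isPModular hp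
  have hMp : M.IsPrime := isPrime_of_isPModular hM
  rw [B0_eq hp hM] at hψ ⊢
  by_contra hχ
  have ha0 : (a : ℂ) ≠ 0 := by rw [← ha]; exact irr_one_ne_zero χ.2
  have hb0 : (b : ℂ) ≠ 0 := by rw [← hb]; exact irr_one_ne_zero ψ.2
  have hχψ : ¬ SameBlock M (χ : G → ℂ) (ψ : G → ℂ) := by
    intro h
    have h1 := h t
    have h2 : centralChar (χ : G → ℂ) t - centralChar (ψ : G → ℂ) t = (c : ℂ) := by
      have hc' : (c : ℂ) * (a * b) = ((centralizer ({t} : Set G)).index : ℂ) * (v * b - w * a) := by exact_mod_cast hc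
      unfold centralChar
      rw [ha, hb, hv, hw]
      field_simp
      linear_combination -hc'
    rw [h2] at h1
    apply hpc
    rcases Int.natAbs_eq c with h3 | h3
    · rw [h3] at h1 ⊢
      rw [Int.cast_natCast, memLocalIdeal_natCast_iff hM] at h1
      exact_mod_cast h1
    · have h4 : MemLocalIdeal M ((c.natAbs : ℕ) : ℂ) := by
        have h5 := memLocalIdeal_neg h1
        rw [h3] at h5
        simpa using h5
      rw [memLocalIdeal_natCast_iff hM] at h4
      rw [h3, dvd_neg]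
      exact_mod_cast h4
  let one : IrrCharacter G := ⟨_, isIrrCharacter_one⟩
  let X : Fin 3 → IrrCharacter G := ![one, ψ, χ]
  have h1d : charDegree (one : G → ℂ) = 1 := charDegree_of_eq (by simp [one])
  have hlin := linearIndependent_rows hM P (fun B hB g => Cfsg.Agent.S0913.result p M hM B hB g) X
    (by
      intro i
      fin_cases i
      · show ¬ p ∣ charDegree (one : G → ℂ)
        rw [h1d, Nat.dvd_one]
        exact hp.one_lt.ne'
      · exact hd'
      · exact hd)
    (by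
      intro i j h
      fin_cases i <;> fin_cases j <;> first | rfl | exfalso
      · exact hψ h
      · exact hχ h
      · exact hψ (sameBlock_symm h)
      · exact hχψ (sameBlock_symm h)
      · exact hχ (sameBlock_symm h)
      · exact hχψ h)
    (![1, t] : Fin 2 → G) (by
      intro y hy hyp
      rcases hP y hy hyp with rfl | h
      · exact ⟨0, IsConj.refl _⟩
      · exact ⟨1, h⟩)
  have h3 := hlin.fintype_card_le_finrank
  rw [Module.finrank_fintype_fun_eq_card, Fintype.card_fin, Fintype.card_fin] at h3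
  omega

open Cfsg.Agent.H852.IMHS Cfsg.Agent.H904.CentChk Cfsg.Agent.H846.PB Equiv

theorem sym6 : ∀ g h : Perm (Fin 5), g ^ 9 = 1 → g ≠ 1 → h * g = g * h → h ^ 6 = 1 := by
  (set_option synthInstance.maxSize 9000 in open scoped Cfsg.Agent.Lib.FastPerm in decide +kernel)

/-- `x` of order 3 with `C(x) / ⟨x⟩ ≅ S₅` -/
theorem exists_x : ∃ (x : Q) (ψ : centralizer ({x} : Set Q) →* Perm (Fin 5)), orderOf x = 3 ∧
    Nat.card ψ.ker = 3 ∧ ∀ c : centralizer ({x} : Set Q), (c : Q) ∈ zpowers x → c ∈ ψ.ker := by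
  have hQ : Nat.card Q = 44352000 := Cfsg.Agent.HN.AutBound.card_Q
  have : Finite Q := Nat.finite_of_card_ne_zero (by rw [hQ]; norm_num)
  have : Fact (Nat.Prime 3) := ⟨by norm_num⟩
  obtain ⟨x, hx⟩ := exists_el in3'
  obtain ⟨a, ha⟩ := exists_el ina
  obtain ⟨b, hb⟩ := exists_el inb
  have hxo : orderOf x = 3 := orderOf_of hx (by decide +kernel) 0 (by decide +kernel)
  have hax : a * x = x * a := commute_of ha hx (by decide +kernel)
  have hbx : b * x = x * b := commute_of hb hx (by decide +kernel)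
  let _ := act5 hx
  let a' : centralizer ({x} : Set Q) := ⟨a, mem_centralizer_singleton_iff.2 hax⟩
  let b' : centralizer ({x} : Set Q) := ⟨b, mem_centralizer_singleton_iff.2 hbx⟩
  set ψ := MulAction.toPermHom (centralizer ({x} : Set Q)) (Fin 5) with hψ
  have hlab : ∀ {P : ℕ} {g : Q}, (∀ i : Fin 100, ((g : Perm (Fin 100)) i : ℕ) = lk P i) → ∀ t : Fin 5,
      (labF ((g : Perm (Fin 100)) (rep t)) : ℕ) = lk tlab (lk P (rep t)) % 5 := by
    intro P g hg t
    show lk tlab ((g : Perm (Fin 100)) (rep t) : Fin 100) % 5 = _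
    rw [hg]
  have h1 : ψ a' = finRotate 5 := by
    refine Equiv.ext fun t => Fin.ext ?_
    show (labF ((a : Perm (Fin 100)) (rep t)) : ℕ) = _
    rw [hlab ha]
    revert t
    decide +kernel
  have h2 : ψ b' = swap 3 4 := by
    refine Equiv.ext fun t => Fin.ext ?_
    show (labF ((b : Perm (Fin 100)) (rep t)) : ℕ) = _
    rw [hlab hb]
    revert t
    decide +kernel
  have h3 : Function.Surjective ψ := by
    rw [← MonoidHom.range_eq_top, eq_top_iff, ← Equiv.Perm.closure_prime_cycle_swap (σ := finRotate 5)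
      (τ := swap 3 4) (by simp; norm_num) isCycle_finRotate support_finRotate ⟨3, 4, by decide, rfl⟩,
      closure_le]
    rintro g (rfl | hg)
    · exact ⟨a', h1⟩
    · rw [Set.mem_singleton_iff] at hg
      rw [hg]
      exact ⟨b', h2⟩
  have hfx : ψ ⟨x, mem_centralizer_singleton_iff.2 rfl⟩ = 1 := by
    refine Equiv.ext fun t => Fin.ext ?_
    show (labF ((x : Perm (Fin 100)) (rep t)) : ℕ) = _
    rw [hlab hx, rep_fix]
    revert t
    decide +kernel
  have hc5 : Nat.card (Perm (Fin 5)) = 120 := by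
    rw [Nat.card_perm, Nat.card_eq_fintype_card, Fintype.card_fin]
    rfl
  have hker : Nat.card ψ.ker * 120 = Nat.card (centralizer ({x} : Set Q)) := by
    rw [← hc5, ← Subgroup.card_top (G := Perm (Fin 5)), ← MonoidHom.range_eq_top.2 h3, mul_comm,
      ← Subgroup.index_ker, mul_comm, Subgroup.card_mul_index]
  have h360 := card_le_360 hx
  have h3k : 3 ∣ Nat.card ψ.ker := by
    have h4 : orderOf (⟨⟨x, mem_centralizer_singleton_iff.2 rfl⟩, MonoidHom.mem_ker.2 hfx⟩ : ψ.ker) = 3 := by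
      rw [Subgroup.orderOf_mk, Subgroup.orderOf_mk, hxo]
    rw [← h4]
    exact orderOf_dvd_natCard _
  have hpos : 0 < Nat.card ψ.ker := Nat.card_pos
  have h5 := Nat.le_of_dvd hpos h3k
  refine ⟨x, ψ, hxo, by omega, fun c hc => ?_⟩
  obtain ⟨k, hk⟩ := mem_zpowers_iff.1 hc
  have h6 : c = (⟨x, mem_centralizer_singleton_iff.2 rfl⟩ : centralizer ({x} : Set Q)) ^ k :=
    Subtype.ext (by rw [← hk]; rfl)
  rw [h6, MonoidHom.mem_ker, map_zpow, hfx, one_zpow]

/-- the elements of order prime to 3 that centralize a Sylow 3-subgroup -/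
theorem exists_sylow : ∃ P : Sylow 3 Q, Nat.card P = 9 ∧
    ∀ y ∈ centralizer ((P : Subgroup Q) : Set Q), ¬ 3 ∣ orderOf y → y * y = 1 := by
  have hQ : Nat.card Q = 44352000 := Cfsg.Agent.HN.AutBound.card_Q
  have : Finite Q := Nat.finite_of_card_ne_zero (by rw [hQ]; norm_num)
  have h3F : Fact (Nat.Prime 3) := ⟨by norm_num⟩
  obtain ⟨x, ψ, hx, hker, hz⟩ := exists_x
  obtain ⟨P, hxP⟩ := (IsPGroup.of_card (p := 3) (n := 1) (by rw [Nat.card_zpowers, hx, pow_one]) :
    IsPGroup 3 (zpowers x)).exists_le_sylow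
  have hP : Nat.card P = 9 := by
    rw [P.card_eq_multiplicity, hQ, show (44352000 : ℕ) = 3 ^ 2 * 4928000 by norm_num,
      Nat.factorization_mul (by norm_num) (by norm_num), Nat.factorization_pow]
    simp [Nat.Prime.factorization_self Nat.prime_three, Nat.factorization_eq_zero_of_not_dvd]
  refine ⟨P, hP, fun y hy h3y => ?_⟩
  have hPc : ∀ a ∈ (P : Subgroup Q), ∀ b ∈ (P : Subgroup Q), a * b = b * a := by
    have hcomm : IsMulCommutative (P : Subgroup Q) := IsPGroup.isMulCommutative_of_card_eq_prime_sq (p := 3) hP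
    intro a ha b hb
    exact congrArg Subtype.val (hcomm.is_comm.comm (⟨a, ha⟩ : (P : Subgroup Q)) ⟨b, hb⟩)
  -- an element outside `⟨x⟩`
  obtain ⟨w, hwP, hwx⟩ : ∃ w ∈ (P : Subgroup Q), w ∉ zpowers x := by
    by_contra hcon
    push Not at hcon
    have h1 : (P : Subgroup Q) ≤ zpowers x := hcon
    have h2 := Subgroup.card_le_of_le h1
    rw [Nat.card_zpowers, hx] at h2
    have h3 : Nat.card (P : Subgroup Q) = 9 := hP
    omega
  have hxP' : x ∈ (P : Subgroup Q) := hxP (mem_zpowers x)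
  have hwc : w * x = x * w := hPc w hwP x hxP'
  have hyx : y * x = x * y := (mem_centralizer_iff.1 hy x hxP').symm
  have hyw : y * w = w * y := (mem_centralizer_iff.1 hy w hwP).symm
  let w' : centralizer ({x} : Set Q) := ⟨w, mem_centralizer_singleton_iff.2 hwc⟩
  let y' : centralizer ({x} : Set Q) := ⟨y, mem_centralizer_singleton_iff.2 hyx⟩
  have hw9 : w ^ 9 = 1 := by
    have h1 : (⟨w, hwP⟩ : (P : Subgroup Q)) ^ Nat.card (P : Subgroup Q) = 1 := pow_card_eq_one'
    have h2 : Nat.card (P : Subgroup Q) = 9 := hP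
    rw [h2] at h1
    exact congrArg Subtype.val h1
  have hw1 : ψ w' ≠ 1 := by
    intro h1
    apply hwx
    -- the kernel is `⟨x⟩`
    have h2 : (zpowers (⟨x, mem_centralizer_singleton_iff.2 rfl⟩ : centralizer ({x} : Set Q))) = ψ.ker := by
      apply Subgroup.eq_of_le_of_card_ge
      · rw [zpowers_le]
        exact hz _ (mem_zpowers x)
      · rw [hker, Nat.card_zpowers, Subgroup.orderOf_mk, hx]
    have h3 : w' ∈ ψ.ker := h1
    rw [← h2] at h3
    obtain ⟨k, hk⟩ := mem_zpowers_iff.1 h3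
    exact mem_zpowers_iff.2 ⟨k, congrArg Subtype.val hk⟩
  have h6 : ψ y' ^ 6 = 1 := by
    refine sym6 (ψ w') (ψ y') ?_ hw1 ?_
    · rw [← map_pow]
      have : w' ^ 9 = 1 := Subtype.ext hw9
      rw [this, map_one]
    · rw [← map_mul, ← map_mul]
      exact congrArg ψ (Subtype.ext hyw)
  have h18 : y ^ 18 = 1 := by
    have h1 : y' ^ 6 ∈ ψ.ker := by rw [MonoidHom.mem_ker, map_pow, h6]
    have h2 : (⟨y' ^ 6, h1⟩ : ψ.ker) ^ Nat.card ψ.ker = 1 := pow_card_eq_one'
    rw [hker] at h2
    have h3 : (y' ^ 6) ^ 3 = 1 := congrArg Subtype.val h2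
    rw [← pow_mul] at h3
    exact congrArg Subtype.val h3
  have h7 : orderOf y ∣ 9 * 2 := orderOf_dvd_of_pow_eq_one h18
  have h8 : Nat.Coprime (orderOf y) 9 := by
    have h9 : Nat.Coprime (orderOf y) 3 := ((Nat.Prime.coprime_iff_not_dvd Nat.prime_three).2 h3y).symm
    exact Nat.Coprime.pow_right 2 h9
  rw [← sq]
  exact orderOf_dvd_iff_pow_eq_one.1 (Nat.Coprime.dvd_of_dvd_mul_left h8 h7)

theorem evAt_three : EvAt 3 Q := by
  obtain ⟨⟨f⟩, hs⟩ := Cfsg.Agent.HN.AutHS.nonempty_Q
  have h : Spor.IsoHS Q := ⟨f⟩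
  have hfin : Finite Q := finite_s h
  have hc : Nat.card Q = 44352000 := card_s h
  have h3F : Fact (Nat.Prime 3) := ⟨by norm_num⟩
  obtain ⟨D, φ, R⟩ := exists_rep h
  obtain ⟨a, ha, ha1, haw⟩ := Cfsg.Agent.H513.PQ.HS.transport R exists_77
  obtain ⟨b, hb, hb1, hbw⟩ := Cfsg.Agent.H513.PQ.HS.transport R exists_22
  have a3 : a ∉ B0 3 Q := H968.PQ.Mathieu.not_mem_of_class (n := 44352000) (m := 2880) (q := 3) (d := 77) (v := 1)
    (c := 15200) hc (by norm_num) (by rw [ha1]; norm_num) haw (card_wB R) (by norm_num) (by norm_num) (by norm_num)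
  obtain ⟨P, hP, hCP⟩ := exists_sylow
  have hidx : (centralizer ({DFour.wB D} : Set Q)).index = 15400 := by
    have h1 := Subgroup.card_mul_index (centralizer ({DFour.wB D} : Set Q))
    rw [card_wB R, hc] at h1
    omega
  have hmem : b ∈ B0 3 Q := by
    refine mem_of_two (by norm_num) P (t := DFour.wB D) (fun y hy h3y => ?_) (a := 22) (b := 77) (v := -2) (w := 1)
      (c := -1600) (by rw [hb1]; norm_num) (by rw [ha1]; norm_num) hbw haw a3 (by rw [hb]; norm_num)
      (by rw [ha]; norm_num) (by rw [hidx]; norm_num) (by norm_num)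
    by_cases hy1 : y = 1
    · exact Or.inl hy1
    refine Or.inr ?_
    have hyy := hCP y hy h3y
    rcases DFour.inv_cases D y hyy hy1 with ⟨c, hc'⟩ | ⟨c, hc'⟩
    · exfalso
      have h1 : Nat.card (centralizer ({y} : Set Q)) = 7680 := by
        rw [← hc', card_centralizer_conj, card_zA]
      have h2 : (P : Subgroup Q) ≤ centralizer ({y} : Set Q) := by
        intro u hu
        rw [mem_centralizer_singleton_iff]
        exact mem_centralizer_iff.1 hy u hu
      have h3 := Subgroup.card_dvd_of_le h2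
      have h4 : Nat.card (P : Subgroup Q) = 9 := hP
      rw [h4, h1] at h3
      norm_num at h3
    · exact (isConj_iff.2 ⟨c, hc'⟩).symm
  intro M hM
  rw [B0_eq (by norm_num) hM] at hmem
  exact ⟨b, hmem, by rw [hb]; norm_num⟩

end three

theorem ev_hs : Ev Q := by
  obtain ⟨⟨f⟩, hs⟩ := Cfsg.Agent.HN.AutHS.nonempty_Q
  have h : Spor.IsoHS Q := ⟨f⟩
  have hfin : Finite Q := finite_s h
  have hc : Nat.card Q = 44352000 := card_s h
  have h7F : Fact (Nat.Prime 7) := ⟨by norm_num⟩
  have h11F : Fact (Nat.Prime 11) := ⟨by norm_num⟩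
  obtain ⟨D, φ, R⟩ := exists_rep h
  obtain ⟨b, hb, -, -⟩ := Cfsg.Agent.H513.PQ.HS.transport R exists_22
  intro p hp hp2 hd
  rw [hc] at hd
  rcases prime_cases hp hd with rfl | rfl | rfl | rfl | rfl
  · exact absurd rfl hp2
  · exact evAt_three
  · exact evAt_of_nb (nb_five h) (χ := b) (by rw [hb]; norm_num) (by rw [hb]; norm_num)
  · exact evAt_of_nb (nb_seven h) (χ := b) (by rw [hb]; norm_num) (by rw [hb]; norm_num)
  · obtain ⟨x, hx⟩ := exists_prime_orderOf_dvd_card' (G := Q) 11 (by rw [hc]; norm_num)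
    obtain ⟨y, hy⟩ := exists_prime_orderOf_dvd_card' (G := Q) 7 (by rw [hc]; norm_num)
    have hS : ¬ IsMulCommutative Q := by
      intro hcm
      have := hs
      let _ : CommGroup Q := { (inferInstance : Group Q) with mul_comm := fun a b => hcm.is_comm.comm a b }
      have h1 : (Nat.card Q).Prime := IsSimpleGroup.prime_card
      rw [hc] at h1
      exact absurd h1 (by norm_num)
    obtain ⟨χ, h1, h2⟩ := exists_even hS hc hx hy (Cfsg.Agent.H904.HSIso.card_eleven h hx)
      (Cfsg.Agent.H904.HSIso.card_seven h hy)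
    exact evAt_of_nb (nb_eleven h) (χ := χ) (by rw [pow_one]; exact h2) h1

/-- **The row of the Higman-Sims group.** -/
theorem row_hs : SpRow fun K => Spor.IsoHS K := by
  intro K _ _ _ h
  obtain ⟨⟨f⟩, hs⟩ := Cfsg.Agent.HN.AutHS.nonempty_Q
  have hfin : Finite Q := finite_s (⟨f⟩ : Spor.IsoHS Q)
  obtain ⟨e⟩ := h
  exact ev_hs.tr (f.trans e.symm)

end Cfsg.Agent.H877.EP.HS

namespace Cfsg.Agent.H877.EP

open Cfsg.Agent.H892.EP

/-- **The row of the Higman-Sims group.** -/
theorem row_hs : SpRow fun K => Spor.IsoHS K := HS.row_hs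

end Cfsg.Agent.H877.EP
end
end

-- part: H710/EP/Suz
section
set_option linter.all false
open scoped Cfsg.Agent.FastGrp

/-!
# S4929, row `Suz` (helper710)

`p = 3, 5`: the degree 364 and `NB p 1` (centralizer orders of the elements of prime order); `p = 7, 11, 13`: real
elements.
-/

set_option autoImplicit false
set_option maxRecDepth 100000

namespace Cfsg.Agent.H710.EP

open Subgroup Cfsg Cfsg.Agent.H892.EP
open Cfsg.Spor (Suz)

universe u

/-- An even degree prime to `p` and `NB p 1`. -/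
theorem evAt_of_nb {G : Type u} [Group G] {p d : ℕ} (hnb : H709.PB.NB p 1 G) (hd : d ∈ charDegrees G) (hp : ¬ p ∣ d)
    (h2 : 2 ∣ d) : EvAt p G := by
  intro M hM
  obtain ⟨χ, rfl⟩ := hd
  refine ⟨χ, ?_, h2⟩
  by_contra h
  exact hp (by simpa using hnb M hM χ h)

section real

open Cfsg.Agent.Lib.PermNet Cfsg.Agent.SporadicRecognition.SuzPhi Cfsg.Agent.SporadicRecognition.SuzOrder
open Cfsg.Agent.H852.RealRank (pal pal_sq)

theorem suz_word_pow (u : List Suz.Gen) (n i : ℕ) :
    ((φ ((u.map fun x => (PresentedGroup.of x : Suz)).prod)) ^ n) i = ptWord (wd (rp u n)) i := by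
  rw [ptWord_eq (wd_ok _), wperm_wd, rp_prod, ← wperm_wd, ← φ_el]
  rfl

/-- real elements from words -/
theorem suz_real_of {p : ℕ} (hp : p.Prime) (w : List Suz.Gen) (x y : Suz.Gen) (i : ℕ)
    (h1 : Nat.beq (ptWord (wd (rp (y :: pal w x) p)) i) i = true)
    (h2 : Nat.beq (ptWord (wd (rp (y :: pal w x) 1)) i) i = false) :
    ∃ y : Suz, orderOf y = p ∧ IsConj y y⁻¹ := by
  have := H212.SuzFive.fin
  have hsq : ∀ x : Suz.Gen, (PresentedGroup.of x : Suz) * PresentedGroup.of x = 1 := by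
    intro x
    have := Cfsg.Agent.SuzThree.Basic.gen_sq x
    simpa [el] using this
  refine H852.RatB.exists_real_of_invols (p := p) hp φ (s := PresentedGroup.of y)
    (t := ((pal w x).map fun x => (PresentedGroup.of x : Suz)).prod)
    (hsq _) (pal_sq _ hsq _ _) (k := 1) (i := i) ?_ ?_
  · rw [mul_one, ← List.prod_cons, ← List.map_cons (f := fun x => (PresentedGroup.of x : Suz)), suz_word_pow]
    exact Nat.eq_of_beq_eq_true h1
  · rw [← List.prod_cons, ← List.map_cons (f := fun x => (PresentedGroup.of x : Suz)), suz_word_pow]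
    intro h
    rw [h, Nat.beq_refl] at h2
    exact Bool.noConfusion h2

theorem real_seven : ∃ y : Suz, orderOf y = 7 ∧ IsConj y y⁻¹ :=
  suz_real_of (by norm_num) [.c, .d, .b, .g, .f, .a, .f, .b, .g, .c] .d .d 0 (by decide +kernel) (by decide +kernel)

theorem real_eleven : ∃ y : Suz, orderOf y = 11 ∧ IsConj y y⁻¹ :=
  suz_real_of (by norm_num) [.c, .b, .a, .d, .f, .d, .c, .f, .a, .g, .d, .c, .e, .a, .d, .f, .c, .d, .b, .d, .f, .c, .e, .a, .b, .d]
      .e .d 0 (by decide +kernel) (by decide +kernel)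

theorem real_thirteen : ∃ y : Suz, orderOf y = 13 ∧ IsConj y y⁻¹ :=
  suz_real_of (by norm_num) [.a, .d, .c, .b, .a, .e, .d, .c, .b, .f, .d, .g, .e, .d, .a, .f, .c, .e, .b, .e, .g, .b, .c, .b, .c, .e]
      .d .e 0 (by decide +kernel) (by decide +kernel)

end real

/-! ### centralizer orders -/

theorem card_cent {G : Type*} [Group G] {a b : G} (h : IsConj a b) :
    Nat.card (centralizer ({b} : Set G)) = Nat.card (centralizer ({a} : Set G)) := by
  obtain ⟨c, rfl⟩ := isConj_iff.1 h
  refine Nat.card_congr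
    { toFun := fun x => ⟨c⁻¹ * x * c, ?_⟩, invFun := fun x => ⟨c * x * c⁻¹, ?_⟩, left_inv := ?_, right_inv := ?_ }
  · have h1 := mem_centralizer_singleton_iff.1 x.2
    rw [mem_centralizer_singleton_iff]
    calc c⁻¹ * x * c * a = c⁻¹ * (x * (c * a * c⁻¹)) * c := by group
      _ = c⁻¹ * ((c * a * c⁻¹) * x) * c := by rw [h1]
      _ = _ := by group
  · have h1 := mem_centralizer_singleton_iff.1 x.2
    rw [mem_centralizer_singleton_iff]
    calc c * x * c⁻¹ * (c * a * c⁻¹) = c * (x * a) * c⁻¹ := by group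
      _ = c * (a * x) * c⁻¹ := by rw [h1]
      _ = _ := by group
  · intro x; apply Subtype.ext; simp [mul_assoc]
  · intro x; apply Subtype.ext; simp [mul_assoc]

theorem cent_two {y : Suz} (hy : orderOf y = 2) : Nat.card (centralizer ({y} : Set Suz)) = 3317760 ∨
    Nat.card (centralizer ({y} : Set Suz)) = 161280 := by
  have h1 : y * y = 1 := by rw [← pow_two, ← hy]; exact pow_orderOf_eq_one y
  have h2 : y ≠ 1 := by rintro rfl; rw [orderOf_one] at hy; norm_num at hy
  rcases Cfsg.Agent.CTwoTab.Suz.classes h1 h2 with h | h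
  · left; rw [card_cent h]; exact Cfsg.Agent.SuzThree.CentCard.card_C1
  · right; rw [card_cent h]; exact Cfsg.Agent.KFacts.SuzTwoB.card_CE

theorem cent_seven {y : Suz} (hy : orderOf y = 7) : Nat.card (centralizer ({y} : Set Suz)) = 84 := by
  rw [← H904.SylOne.centralizer_zpowers_eq]
  exact (H212.SuzFive.data7 (by rw [Nat.card_zpowers, hy])).1

theorem cent_eleven {y : Suz} (hy : orderOf y = 11) : Nat.card (centralizer ({y} : Set Suz)) = 11 := by
  rw [← H904.SylOne.centralizer_zpowers_eq]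
  exact (H212.SuzFive.data11 (by rw [Nat.card_zpowers, hy])).1

/-- no element of order 5 centralizes a Sylow 3-subgroup -/
theorem not_pow_three {y : Suz} (hy : ¬ 3 ∣ orderOf y) (hy1 : y ≠ 1) : ¬ 3 ^ 7 ∣ Nat.card (centralizer ({y} : Set Suz)) := by
  intro h
  have hfin := H212.SuzFive.fin
  have h3 : Fact (Nat.Prime 3) := ⟨Nat.prime_three⟩
  obtain ⟨S, hS⟩ := Sylow.exists_subgroup_card_pow_prime 3 h
  obtain ⟨P, hA, -⟩ := H212.SuzFive.exists_sylow
  have hP : Nat.card (P : Subgroup Suz) = 3 ^ 7 := by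
    rw [P.card_eq_multiplicity, H212.SuzFive.fac_three]
  have hSm : IsPGroup 3 (S.map (centralizer ({y} : Set Suz)).subtype) :=
    IsPGroup.of_card (n := 7) (by rw [card_map_of_injective (centralizer ({y} : Set Suz)).subtype_injective, hS])
  obtain ⟨Q, hQ⟩ := hSm.exists_le_sylow
  obtain ⟨c, hc⟩ := MulAction.exists_smul_eq Suz Q P
  have hQe : (Q : Subgroup Suz) = S.map (centralizer ({y} : Set Suz)).subtype := by
    refine (Subgroup.eq_of_le_of_card_ge hQ ?_).symm
    rw [card_map_of_injective (centralizer ({y} : Set Suz)).subtype_injective, hS, ← hP]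
    exact (Nat.card_congr (Q.equiv P).toEquiv).le
  have h1 : c * y * c⁻¹ ∈ SuzThree.Elementary.A0 := by
    apply SuzThree.Kernel.mem_of_centralizes
    intro v
    have hv : SuzThree.Elementary.E v ∈ (P : Subgroup Suz) := hA (SuzThree.Elementary.E_mem v)
    rw [← hc] at hv
    obtain ⟨q, hq, hqv⟩ := hv
    have hq' : q ∈ (Q : Subgroup Suz) := hq
    rw [hQe] at hq'
    obtain ⟨s, hs, rfl⟩ := hq'
    have hs' : (s : Suz) * y = y * s := mem_centralizer_singleton_iff.1 s.2
    have hqv' : c * (s : Suz) * c⁻¹ = SuzThree.Elementary.E v := hqv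
    rw [← hqv']
    calc c * y * c⁻¹ * (c * s * c⁻¹) = c * (y * s) * c⁻¹ := by group
      _ = c * (s * y) * c⁻¹ := by rw [hs']
      _ = _ := by group
  have h2 : (c * y * c⁻¹) ^ 3 = 1 := SuzThree.Elementary.cube_A0 h1
  have h4 : orderOf y ∣ 3 := by
    have h5 : orderOf (c * y * c⁻¹) = orderOf y := orderOf_injective (MulAut.conj c).toMonoidHom (MulAut.conj c).injective y
    rw [← h5]
    exact orderOf_dvd_of_pow_eq_one h2
  rcases (Nat.dvd_prime Nat.prime_three).1 h4 with h5 | h5
  · exact hy1 (orderOf_eq_one_iff.1 h5)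
  · exact hy (by rw [h5])

theorem card_suz : Nat.card Suz = 448345497600 := H289.Eight.SuzDeg.card_suz

theorem prime_cases {r : ℕ} (hr : r.Prime) (hd : r ∣ Nat.card Suz) :
    r = 2 ∨ r = 3 ∨ r = 5 ∨ r = 7 ∨ r = 11 ∨ r = 13 := by
  have hc : Nat.card Suz = 2 ^ 13 * 3 ^ 7 * 5 ^ 2 * 7 * 11 * 13 := by rw [card_suz]; norm_num
  rw [hc] at hd
  simp only [hr.dvd_mul] at hd
  rcases hd with ((((h | h) | h) | h) | h) | h
  · left; exact (Nat.prime_dvd_prime_iff_eq hr Nat.prime_two).1 (hr.dvd_of_dvd_pow h)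
  · right; left; exact (Nat.prime_dvd_prime_iff_eq hr Nat.prime_three).1 (hr.dvd_of_dvd_pow h)
  · right; right; left; exact (Nat.prime_dvd_prime_iff_eq hr Nat.prime_five).1 (hr.dvd_of_dvd_pow h)
  · right; right; right; left; exact (Nat.prime_dvd_prime_iff_eq hr (by norm_num)).1 h
  · right; right; right; right; left; exact (Nat.prime_dvd_prime_iff_eq hr (by norm_num)).1 h
  · right; right; right; right; right; exact (Nat.prime_dvd_prime_iff_eq hr (by norm_num)).1 h

theorem nb_three : H709.PB.NB 3 1 Suz := by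
  have hfin := H212.SuzFive.fin
  have h3 : Fact (Nat.Prime 3) := ⟨Nat.prime_three⟩
  refine H709.PB.NB.of_orders (a := 7) (by rw [card_suz]; norm_num) fun y hy hy3 => ?_
  refine not_pow_three (fun h => hy3 ((Nat.prime_dvd_prime_iff_eq Nat.prime_three hy).1 h).symm) ?_
  rintro rfl
  rw [orderOf_one] at hy
  exact Nat.not_prime_one hy

theorem nb_five : H709.PB.NB 5 1 Suz := by
  have hfin := H212.SuzFive.fin
  have h5 : Fact (Nat.Prime 5) := ⟨Nat.prime_five⟩
  refine H709.PB.NB.of_orders (a := 2) (by rw [card_suz]; norm_num) fun y hy hy5 => ?_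
  rcases prime_cases hy (orderOf_dvd_natCard y) with h | h | h | h | h | h
  · rcases cent_two h with h1 | h1 <;> rw [h1] <;> norm_num
  · exact CpAutSuz.Five.not_25 h
  · exact absurd h hy5
  · rw [cent_seven h]; norm_num
  · rw [cent_eleven h]; norm_num
  · rw [H153.Zeros.card_cent_suz h]; norm_num

theorem cyc {p : ℕ} [hp : Fact p.Prime] (hd : p ∣ Nat.card Suz) (hn : ¬ p ^ 2 ∣ Nat.card Suz) (P : Sylow p Suz) :
    IsCyclic (P : Subgroup Suz) := by
  have hfin := H212.SuzFive.fin
  have h1 : Nat.card (P : Subgroup Suz) = p := by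
    obtain ⟨k, hk⟩ := IsPGroup.iff_card.1 P.isPGroup'
    have h2 : p ∣ Nat.card (P : Subgroup Suz) := by
      have := P.pow_dvd_card_of_pow_dvd_card (n := 1) (by rwa [pow_one])
      rwa [pow_one] at this
    have h3 : Nat.card (P : Subgroup Suz) ∣ Nat.card Suz := card_subgroup_dvd_card _
    rw [hk] at h2 h3 ⊢
    have hk1 : k ≠ 0 := by rintro rfl; rw [pow_zero] at h2; exact hp.out.one_lt.ne' (Nat.dvd_one.1 h2)
    have hk2 : k < 2 := by
      by_contra hc
      exact hn ((pow_dvd_pow p (by omega)).trans h3)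
    rw [show k = 1 by omega, pow_one]
  exact isCyclic_of_prime_card h1

theorem ev_suz : Ev Suz := by
  intro p hp hp2 hd
  have hfin := H212.SuzFive.fin
  have hF : Fact p.Prime := ⟨hp⟩
  rcases prime_cases hp hd with rfl | rfl | rfl | rfl | rfl | rfl
  · exact absurd rfl hp2
  · exact evAt_of_nb nb_three H289.Eight.SuzDeg.deg_364 (by norm_num) (by norm_num)
  · exact evAt_of_nb nb_five H289.Eight.SuzDeg.deg_364 (by norm_num) (by norm_num)
  · obtain ⟨z, hz, hr⟩ := real_seven
    exact evAt_of_real_cyclic hp2 (cyc hd (by rw [card_suz]; norm_num)) hz hr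
  · obtain ⟨z, hz, hr⟩ := real_eleven
    exact evAt_of_real_cyclic hp2 (cyc hd (by rw [card_suz]; norm_num)) hz hr
  · obtain ⟨z, hz, hr⟩ := real_thirteen
    exact evAt_of_real_cyclic hp2 (cyc hd (by rw [card_suz]; norm_num)) hz hr

/-- **The row `Suz` of S4929.** -/
theorem row_suz : SpRow fun K => Spor.IsoSuz K := by
  intro K _ _ _ h
  obtain ⟨e⟩ := h
  have hfin := H212.SuzFive.fin
  exact ev_suz.tr e.symm

end Cfsg.Agent.H710.EP
end
end
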